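import Mathlib
import Groth.Agent.H21.Hyp.Defs
import Groth.Agent.H21.Hyp.KLemma
import Groth.Agent.H21.Hyp.AssTensor
import Groth.Agent.H88.HypPhi
import Groth.Agent.H18.TensorCoh
import Groth.Agent.H8.IsoCover

/-!
# Core lemmas for S7679 (`H^0(F ⊗ L^{-n}) = 0` for `n ≫ 0`)
-/

set_option autoImplicit false
set_option linter.style.haveILetI false
universe u

open CategoryTheory CategoryTheory.Limits AlgebraicGeometry TopologicalSpace Opposite
open Groth.Agent.H18.SecTw Groth.Agent.H18.TensorGen Groth.Agent.H18.TensorSec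

noncomputable section

namespace Groth.Agent.H21.Amp

variable {X : Scheme.{u}}

/-- (Germ) a nonzero global section of a quasi-coherent module on a locally noetherian scheme has a
nonzero germ at some associated point. -/
theorem exists_isAssPoint_germ_top_ne_zero [IsLocallyNoetherian X] (G : X.Modules)
    [G.IsQuasicoherent] (τ : Γ(G, ⊤)) (hτ : τ ≠ 0) :
    ∃ y : X, Curv2.IsAssPoint G y ∧ G.presheaf.germ ⊤ y trivial τ ≠ 0 := by
  classical
  have hex : ∃ U : X.affineOpens,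
      G.presheaf.map (homOfLE (le_top : (U : X.Opens) ≤ ⊤)).op τ ≠ 0 := by
    by_contra hcon
    push Not at hcon
    apply hτ
    refine Groth.Agent.H8.section_eq_of_cover G τ 0 (fun x _ => ?_)
    obtain ⟨_, ⟨U, hU, rfl⟩, hxU, -⟩ := X.isBasis_affineOpens.exists_subset_of_mem_open
      (Set.mem_univ x) isOpen_univ
    refine ⟨U, le_top, hxU, ?_⟩
    rw [hcon ⟨U, hU⟩, map_zero]
  obtain ⟨U, hU⟩ := hex
  haveI : IsNoetherianRing Γ(X, (U : X.Opens)) := IsLocallyNoetherian.component_noetherian U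
  obtain ⟨y, hyU, hyass, hgerm⟩ := Groth.Agent.H8.exists_isAssPoint_germ_ne_zero U.2 G _ hU
  refine ⟨y, hyass, fun h0 => hgerm ?_⟩
  have e1 := TopCat.Presheaf.germ_res_apply G.presheaf
    (homOfLE (le_top : (U : X.Opens) ≤ ⊤)) y hyU τ
  rw [e1]
  exact h0

/-- (DivStep) one step of divisibility by the local equation of `s`. -/
theorem div_step {G' G Λ : X.Modules} (ψ : CohB1.tensorMod G' Λ ≅ G)
    (s : Coh.structureModule X ⟶ Λ) (W : X.Opens) (a : Γ(X, W)) (e : Γ(Λ, W))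
    (hs : sv s W = a • e) (j : ℕ) (τ' : Γ(G', ⊤)) (g' : Γ(G', W))
    (h : G'.presheaf.map (homOfLE (le_top : W ≤ ⊤)).op τ' = a ^ j • g') :
    G.presheaf.map (homOfLE (le_top : W ≤ ⊤)).op (ψ.hom.app ⊤ (tm G' Λ τ' (sv s ⊤))) =
      a ^ (j + 1) • ψ.hom.app W (tm G' Λ g' e) := by
  rw [← Groth.Agent.H8.app_res, tm_res, sv_res, h, hs, tm_smul_left, tm_smul_right, ← mul_smul,
    Scheme.Modules.Hom.app_smul, pow_succ]

/-- the `k`-linear multiplication map -/
def mulLin (k : Type u) [Field k] [X.Over (Spec (CommRingCat.of k))] {F G O1 : X.Modules}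
    (ψ : CohB1.tensorMod G O1 ≅ F) (s : Γ(O1, ⊤)) : Coh.HH X G 0 →ₗ[k] Coh.HH X F 0 where
  toFun := Groth.Agent.H88.HypPhi.mulBy ψ s
  map_add' := Groth.Agent.H88.HypPhi.mulBy_add ψ s
  map_smul' c t := Groth.Agent.H88.HypPhi.mulBy_smul ψ s
    (Coh.toGlobal (X ↘ Spec (CommRingCat.of k)) c) t

theorem e0_mulLin (k : Type u) [Field k] [X.Over (Spec (CommRingCat.of k))] {F G O1 : X.Modules}
    (ψ : CohB1.tensorMod G O1 ≅ F) (s : Γ(O1, ⊤)) (t : Coh.HH X G 0) :
    Groth.Agent.H21.Hyp.e0 F (mulLin k ψ s t) =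
      ψ.hom.app ⊤ (tm G O1 (Groth.Agent.H21.Hyp.e0 G t) s) :=
  (Groth.Agent.H21.Hyp.e0 F).apply_symm_apply _

/-- injectivity of multiplication by `s` when `Ass G ⊆ X_s`. -/
theorem injective_mulLin (k : Type u) [Field k] [X.Over (Spec (CommRingCat.of k))]
    [IsLocallyNoetherian X] {F G Λ : X.Modules} [G.IsQuasicoherent]
    (ψ : CohB1.tensorMod G Λ ≅ F) (s : Coh.structureModule X ⟶ Λ)
    (hass : ∀ y : X, Curv2.IsAssPoint G y → y ∈ CohB1.genLocus Λ s) :
    Function.Injective (mulLin k ψ (sv s ⊤)) := by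
  rw [injective_iff_map_eq_zero]
  intro t ht
  by_contra hne
  have h1 := Groth.Agent.H88.HypPhi.tm_eq_zero_of_mulBy ψ (sv s ⊤) t ht
  have hτ : Groth.Agent.H21.Hyp.e0 G t ≠ 0 := fun h0 =>
    hne ((AddEquiv.map_eq_zero_iff (Groth.Agent.H21.Hyp.e0 G)).mp h0)
  obtain ⟨y, hy, hyn⟩ := Groth.Agent.H21.Hyp.exists_assPoint_of_tm_eq_zero G Λ s _ hτ h1
  exact hyn (hass y hy)

end Groth.Agent.H21.Amp
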