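import Mathlib
import Groth.Agent.H21.Hyp.Defs
import Groth.Agent.H88.HypPhi
import Groth.Agent.H82.ProjFinite
import Groth.Agent.H8.QCohPush
import Groth.Agent.S0019

/-!
# (F2) finiteness of `H^0` of a coherent module on a closed subscheme of `P^N_k`
-/

set_option autoImplicit false
set_option linter.style.haveILetI false
universe u

open CategoryTheory CategoryTheory.Limits AlgebraicGeometry TopologicalSpace Opposite

noncomputable section

namespace Groth.Agent.H21.Amp

theorem finite_HH_zero_of_closedImmersion (k : Type u) [Field k] (X : Scheme.{u})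
    [X.Over (Spec (CommRingCat.of k))] (N : ℕ) (i : X ⟶ CohB1.ProjSpace N k)
    [IsClosedImmersion i] (hi : i ≫ CohB1.ProjSpace.toSpec N k = X ↘ (Spec (CommRingCat.of k)))
    (G : X.Modules) (hG : Coh.IsCoh G) : Module.Finite k (Coh.HH X G 0) := by
  haveI : IsLocallyNoetherian (CohB1.ProjSpace N k) :=
    Groth.Agent.H82.ProjFinite.isLocallyNoetherian N k
  have hcoh : Coh.IsCoh ((Coh.push i).obj G) := Groth.Agent.S0019.result i G hG
  haveI : Module.Finite k (Coh.HH (CohB1.ProjSpace N k) ((Coh.push i).obj G) 0) :=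
    Groth.Agent.H82.ProjFinite.finite_HH N k _ hcoh 0
  -- the comparison map
  let φ : Coh.HH (CohB1.ProjSpace N k) ((Coh.push i).obj G) 0 →ₗ[k] Coh.HH X G 0 :=
    { toFun := fun t => (Groth.Agent.H21.Hyp.e0 G).symm
        (show Γ(G, ⊤) from Groth.Agent.H21.Hyp.e0 ((Coh.push i).obj G) t)
      map_add' := fun t t' => by
        rw [map_add]
        exact map_add (Groth.Agent.H21.Hyp.e0 G).symm _ _
      map_smul' := fun c t => by
        have hc : i.app ⊤ (Coh.toGlobal (CohB1.ProjSpace N k ↘ Spec (CommRingCat.of k)) c) =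
            Coh.toGlobal (X ↘ Spec (CommRingCat.of k)) c := by
          have h1 : (X ↘ Spec (CommRingCat.of k)).appTop =
              (CohB1.ProjSpace.toSpec N k).appTop ≫ i.appTop := by
            rw [← hi, Scheme.Hom.comp_appTop]
          show i.appTop.hom (((CohB1.ProjSpace.toSpec N k).appTop).hom _) =
            ((X ↘ Spec (CommRingCat.of k)).appTop).hom _
          rw [h1]
          rfl
        have h2 : Groth.Agent.H21.Hyp.e0 ((Coh.push i).obj G) (c • t) =
            (show Γ(CohB1.ProjSpace N k, ⊤) from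
              Coh.toGlobal (CohB1.ProjSpace N k ↘ Spec (CommRingCat.of k)) c) •
              Groth.Agent.H21.Hyp.e0 ((Coh.push i).obj G) t :=
          Groth.Agent.H88.HypPhi.e0_smul ((Coh.push i).obj G) _ t
        have h3 := Groth.Agent.H88.HypPhi.e0_symm_smul G
          (Coh.toGlobal (X ↘ Spec (CommRingCat.of k)) c)
          (show Γ(G, ⊤) from Groth.Agent.H21.Hyp.e0 ((Coh.push i).obj G) t)
        show (Groth.Agent.H21.Hyp.e0 G).symm
          (show Γ(G, ⊤) from Groth.Agent.H21.Hyp.e0 ((Coh.push i).obj G) (c • t)) =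
          (Coh.toGlobal (X ↘ Spec (CommRingCat.of k)) c) • (Groth.Agent.H21.Hyp.e0 G).symm
          (show Γ(G, ⊤) from Groth.Agent.H21.Hyp.e0 ((Coh.push i).obj G) t)
        rw [← h3, h2, ← hc]
        rfl }
  have hsurj : Function.Surjective φ := by
    intro x
    refine ⟨(Groth.Agent.H21.Hyp.e0 ((Coh.push i).obj G)).symm
      (show Γ((Coh.push i).obj G, ⊤) from Groth.Agent.H21.Hyp.e0 G x), ?_⟩
    show (Groth.Agent.H21.Hyp.e0 G).symm (show Γ(G, ⊤) from
      Groth.Agent.H21.Hyp.e0 ((Coh.push i).obj G)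
        ((Groth.Agent.H21.Hyp.e0 ((Coh.push i).obj G)).symm _)) = x
    rw [AddEquiv.apply_symm_apply]
    exact (Groth.Agent.H21.Hyp.e0 G).symm_apply_apply x
  exact Module.Finite.of_surjective φ hsurj

end Groth.Agent.H21.Amp
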