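import Mathlib
import Groth.Agent.H18.TensorAssoc
import Groth.Agent.H18.TensorPowIso
import Groth.Agent.H18.AmpleTensor
import Groth.Agent.H18.AmpleTwistGG
import Groth.Agent.H18.AmpleIso
import Groth.Agent.H18.QAffAmple
import Groth.Agent.H18.HypUJG
import Groth.Agent.H18.TensorModIso

/-!
# (Psi) `(F ⊗ M^{n+d}) ⊗ L^d ≅ F ⊗ M^n` when `L ⊗ M ≅ O`
-/

set_option autoImplicit false
set_option linter.style.haveILetI false
universe u

open CategoryTheory CategoryTheory.Limits AlgebraicGeometry TopologicalSpace Opposite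
open Groth.Agent.H18.TensorGen

noncomputable section

namespace Groth.Agent.H21.Amp

theorem nonempty_psi {X : Scheme.{u}} (L M F : X.Modules) (hL : PicF.IsInvertible L)
    (hM : PicF.IsInvertible M) (e : CohB1.tensorMod L M ≅ Coh.structureModule X) (n d : ℕ) :
    Nonempty (CohB1.tensorMod (CohB1.tensorMod F (CohB1.tensorPow M (n + d))) (CohB1.tensorPow L d) ≅
      CohB1.tensorMod F (CohB1.tensorPow M n)) := by
  have hMn := isInvertible_tensorPow hM n
  have hMd := isInvertible_tensorPow hM d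
  have hMnd := isInvertible_tensorPow hM (n + d)
  have hLd := isInvertible_tensorPow hL d
  obtain ⟨a1⟩ := Groth.Agent.H18.TensorAssoc.nonempty_tensorMod_assoc
    (F := F) (A := CohB1.tensorPow M (n + d)) (B := CohB1.tensorPow L d) hMnd hLd
  obtain ⟨p⟩ := Groth.Agent.H18.TensorPowIso.nonempty_tensorPow_add hM n d
  obtain ⟨c1⟩ := Groth.Agent.H18.TensorModIso.nonempty_tensorMod_congr p.symm
    (Iso.refl (CohB1.tensorPow L d))
  obtain ⟨a2⟩ := Groth.Agent.H18.TensorAssoc.nonempty_tensorMod_assoc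
    (F := CohB1.tensorPow M n) (A := CohB1.tensorPow M d) (B := CohB1.tensorPow L d) hMd hLd
  obtain ⟨q⟩ := Groth.Agent.H18.AmpleTensor.nonempty_tensorPow_tensorMod hM hL d
  obtain ⟨c⟩ := Groth.Agent.H18.AmpleTwistGG.nonempty_tensorMod_comm M L
  obtain ⟨r⟩ := Groth.Agent.H18.AmpleIso.nonempty_tensorPow_iso (c ≪≫ e) d
  obtain ⟨u⟩ := Groth.Agent.H18.QAffAmple.nonempty_tensorPow_unit_iso (X := X) d
  obtain ⟨c2⟩ := Groth.Agent.H18.TensorModIso.nonempty_tensorMod_congr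
    (Iso.refl (CohB1.tensorPow M n)) (q ≪≫ r ≪≫ u)
  obtain ⟨v⟩ := Groth.Agent.H18.HypUJG.nonempty_tensorMod_unit (CohB1.tensorPow M n)
  obtain ⟨c3⟩ := Groth.Agent.H18.TensorModIso.nonempty_tensorMod_congr (Iso.refl F)
    (c1 ≪≫ a2 ≪≫ c2 ≪≫ v)
  exact ⟨a1 ≪≫ c3⟩

end Groth.Agent.H21.Amp
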