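import Mathlib
import Groth.Agent.H21.Amp.Core
import Groth.Agent.H21.Amp.Psi
import Groth.Agent.H21.Amp.F2
import Groth.Agent.H96.Hyp_Stab
import Groth.Agent.H96.Hyp_Pt
import Groth.Agent.H86.Hyp_F1
import Groth.Agent.H89.Hyp_Krull
import Groth.Agent.H18.FinPtsAmple
import Groth.Agent.H18.AmpleTwistGG
import Groth.Agent.H8.InvTensor
import Groth.Agent.S1576
import Groth.Prelude.Def_ClSub2

/-!
# S7679: `H^0(F ⊗ L^{-n}) = 0` for `n ≫ 0`
-/

set_option autoImplicit false
set_option linter.style.haveILetI false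
universe u

open CategoryTheory CategoryTheory.Limits AlgebraicGeometry TopologicalSpace Opposite
open Groth.Agent.H18.SecTw Groth.Agent.H18.TensorGen Groth.Agent.H18.TensorSec

noncomputable section

namespace Groth.Agent.H21.Amp

theorem main (k : Type u) [Field k] (X : Scheme.{u}) [X.Over (Spec (CommRingCat.of k))]
    [IsProper (X ↘ (Spec (CommRingCat.of k)))]
    (L : X.Modules) (hL : CohB1.IsAmple L) (M : X.Modules) (hM : ClSub.IsInverseOf L M)
    (F : X.Modules) (hF : Coh.IsCoh F)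
    (hass : ∀ x : X, IsClosed ({x} : Set X) → ¬ Curv2.IsAssPoint F x) :
    ∃ n₀ : ℕ, ∀ n : ℕ, n₀ ≤ n →
      Subsingleton (Coh.HH X (CohB1.tensorMod F (CohB1.tensorPow M n)) 0) := by
  classical
  obtain ⟨e⟩ := hM
  obtain ⟨c⟩ := Groth.Agent.H18.AmpleTwistGG.nonempty_tensorMod_comm M L
  have hLinv : PicF.IsInvertible L := hL.1
  have hMinv : PicF.IsInvertible M :=
    Groth.Agent.H8.InvTensor.isInvertible_of_tensor_iso M L (c ≪≫ e)
  haveI : CompactSpace X := hL.2.1
  haveI : IsLocallyNoetherian X :=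
    LocallyOfFiniteType.isLocallyNoetherian (X ↘ (Spec (CommRingCat.of k)))
  haveI : F.IsQuasicoherent := hF.1
  -- finitely many associated points, all inside an affine `X_s`
  have hfin : {x : X | Curv2.IsAssPoint F x}.Finite := by
    have h1 := Groth.Agent.S1576.result X F hF ⊤ isCompact_univ
    refine h1.subset (fun x hx => ⟨trivial, hx⟩)
  obtain ⟨m, s, hEs, -, hDaff⟩ :=
    Groth.Agent.H18.FinPtsAmple.exists_pow_section_affine_of_finite hL ⊤
      {x : X | Curv2.IsAssPoint F x} hfin (fun _ _ => trivial)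
  have hΛ : PicF.IsInvertible (CohB1.tensorPow L (m + 1)) := isInvertible_tensorPow hLinv (m + 1)
  have hMn : ∀ n, PicF.IsInvertible (CohB1.tensorPow M n) := fun n => isInvertible_tensorPow hMinv n
  have hG : ∀ n, Coh.IsCoh (CohB1.tensorMod F (CohB1.tensorPow M n)) :=
    fun n => Groth.Agent.H18.TensorCoh.isCoh_tensorMod hF (hMn n)
  have hGq : ∀ n, (CohB1.tensorMod F (CohB1.tensorPow M n)).IsQuasicoherent := fun n => (hG n).1
  have ψ : ∀ n, CohB1.tensorMod (CohB1.tensorMod F (CohB1.tensorPow M (n + (m + 1))))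
      (CohB1.tensorPow L (m + 1)) ≅ CohB1.tensorMod F (CohB1.tensorPow M n) :=
    fun n => (nonempty_psi L M F hLinv hMinv e n (m + 1)).some
  -- finiteness
  obtain ⟨N, i, hi, hik⟩ := Groth.Agent.H86.Hyp_F1.exists_closedImmersion_projSpace k X L hL
  have fin : ∀ n, Module.Finite k (Coh.HH X (CohB1.tensorMod F (CohB1.tensorPow M n)) 0) :=
    fun n => finite_HH_zero_of_closedImmersion k X N i hik _ (hG n)
  -- the multiplication maps
  have μinj : ∀ n, Function.Injective (mulLin k (ψ n) (sv s ⊤)) := fun n =>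
    haveI := hGq (n + (m + 1))
    injective_mulLin k (ψ n) s (fun y hy => hEs
      (Groth.Agent.H21.Hyp.isAssPoint_of_tensorMod F _ (hMn (n + (m + 1))) y hy))
  obtain ⟨n₀, hn₀⟩ := Groth.Agent.H96.Hyp_Stab.exists_stable
    (fun n => Module.finrank k (Coh.HH X (CohB1.tensorMod F (CohB1.tensorPow M n)) 0)) (m + 1)
    (fun n => by
      haveI := fin n
      haveI := fin (n + (m + 1))
      exact LinearMap.finrank_le_finrank_of_injective (μinj n))
  have μsurj : ∀ n, n₀ ≤ n → Function.Surjective (mulLin k (ψ n) (sv s ⊤)) := fun n hn => by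
    haveI := fin n
    haveI := fin (n + (m + 1))
    exact (LinearMap.injective_iff_surjective_of_finrank_eq_finrank (hn₀ n hn)).mp (μinj n)
  refine ⟨n₀, fun n hn => ?_⟩
  refine subsingleton_of_forall_eq 0 (fun t => ?_)
  by_contra hne
  have hτ : Groth.Agent.H21.Hyp.e0 _ t ≠ 0 := fun h0 =>
    hne ((AddEquiv.map_eq_zero_iff (Groth.Agent.H21.Hyp.e0 _)).mp h0)
  haveI := hGq n
  obtain ⟨y, hyass, hgerm⟩ := exists_isAssPoint_germ_top_ne_zero _ _ hτ
  have hyF : Curv2.IsAssPoint F y :=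
    Groth.Agent.H21.Hyp.isAssPoint_of_tensorMod F _ (hMn n) y hyass
  have hycl : ¬ IsClosed ({y} : Set X) := fun hc => hass y hc hyF
  obtain ⟨z, hyz, hzD⟩ := Groth.Agent.H96.Hyp_Pt.exists_specializes_not_mem k X _ hDaff y hycl
  obtain ⟨V, ε, hzV, hgen⟩ := exists_isGen hΛ z
  obtain ⟨a, ha⟩ := hgen.self.2 (sv s V)
  have ha' : sv s V = a • ε := ha.symm
  have hza : z ∉ X.basicOpen a := fun h =>
    hzD ((mem_genLocus_iff_of_isGen s hgen a ha' z hzV).mpr h)
  -- divisibility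
  have hdiv : ∀ j : ℕ, ∀ n : ℕ, n₀ ≤ n →
      ∀ τ : Γ(CohB1.tensorMod F (CohB1.tensorPow M n), ⊤),
      ∃ g : Γ(CohB1.tensorMod F (CohB1.tensorPow M n), V),
        (CohB1.tensorMod F (CohB1.tensorPow M n)).presheaf.map (homOfLE (le_top : V ≤ ⊤)).op τ =
          a ^ j • g := by
    intro j
    induction j with
    | zero =>
      intro n _ τ
      exact ⟨_, by rw [pow_zero, one_smul]⟩
    | succ j ih =>
      intro n hn τ
      obtain ⟨t', ht'⟩ := μsurj n hn ((Groth.Agent.H21.Hyp.e0 _).symm τ)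
      obtain ⟨g', hg'⟩ := ih (n + (m + 1)) (by omega) (Groth.Agent.H21.Hyp.e0 _ t')
      have h1 := e0_mulLin k (ψ n) (sv s ⊤) t'
      rw [ht', AddEquiv.apply_symm_apply] at h1
      refine ⟨(ψ n).hom.app V (tm _ _ g' ε), ?_⟩
      rw [h1]
      exact div_step (ψ n) s V a ε ha' j _ g' hg'
  apply hgerm
  have h2 := Groth.Agent.H89.Hyp_Krull.germ_eq_zero_of_divisible _ (hG n) z V hzV a hza _
    (fun j => hdiv j n hn (Groth.Agent.H21.Hyp.e0 _ t)) y hyz
  have e1 := TopCat.Presheaf.germ_res_apply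
    (CohB1.tensorMod F (CohB1.tensorPow M n)).presheaf
    (homOfLE (le_top : V ≤ ⊤)) y (hyz.mem_open V.2 hzV) (Groth.Agent.H21.Hyp.e0 _ t)
  rw [← e1]
  exact h2

end Groth.Agent.H21.Amp
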